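import Mathlib
import Cfsg.Prelude.Def_Blocks
import Cfsg.Agent.Lib.Helper78.PDDefs
import Cfsg.Agent.Lib.Helper04.BurnsideSimple
import Cfsg.Agent.Lib.Helper04.CoprimeDegree
import Cfsg.Agent.Lib.Helper56.PDDeg2
import Cfsg.Agent.S4465
import Cfsg.Agent.Lib.Helper83.CharMisc

/-!
# K-PD (S4466), parallel hand (helper38): the simple case

A finite simple group not of prime order has an irreducible character of degree `≠ 1` which is not
of prime degree.
-/

set_option autoImplicit false

namespace Cfsg.Agent.Lib.Helper38.PD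

open Cfsg Cfsg.Agent.Lib.Helper78.PD Cfsg.Agent.Lib.Helper04
open scoped ComplexConjugate
open Module

universe u

variable {G : Type u} [Group G] [Finite G] [IsSimpleGroup G]

/-- Burnside's step, general form: for `g ≠ 1` in a simple group not of prime order and a
nontrivial irreducible character `χ` whose degree is divisible by `p` or coprime to the class size
of `g`, the product `χ g * conj (χ 1)` is `p` times an algebraic integer. -/
theorem irr_mul_eq_mul_of_dvd_or_coprime (hnp : ¬ (Nat.card G).Prime) (p : ℕ) (g : G)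
    (hg : g ≠ 1) (χ : IrrCharacter G) (hχ : (χ : G → ℂ) ≠ fun _ => 1)
    (h : p ∣ charDegree (χ : G → ℂ) ∨
      Nat.Coprime (charDegree (χ : G → ℂ)) (Subgroup.centralizer ({g} : Set G)).index) :
    ∃ β : ℂ, IsIntegral ℤ β ∧ (χ : G → ℂ) g * conj ((χ : G → ℂ) 1) = p * β := by
  obtain ⟨n, ρ, hirr, hρ⟩ := χ.2
  have h1 : (χ : G → ℂ) 1 = n := by
    rw [← hρ, Representation.char_one, Module.finrank_fin_fun]
  have hdeg : charDegree (χ : G → ℂ) = n := charDegree_eq_of_apply_one h1
  rw [hdeg] at h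
  rw [h1, Complex.conj_natCast]
  rcases h with hpn | hcop'
  · obtain ⟨m, rfl⟩ := hpn
    refine ⟨m * (χ : G → ℂ) g, ?_, ?_⟩
    · rw [← hρ]
      exact IsIntegral.mul (isIntegral_natCast m) (isIntegral_char ρ g)
    · push_cast
      ring
  · have hcop : Nat.Coprime (finrank ℂ (Fin n → ℂ))
        (Subgroup.centralizer ({g} : Set G)).index := by
      rw [Module.finrank_fin_fun]
      exact hcop'
    rcases Cfsg.Agent.S0142.result ρ g hcop with h0 | hnorm
    · refine ⟨0, isIntegral_zero, ?_⟩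
      rw [← hρ, h0]
      simp
    · exfalso
      obtain ⟨ω, hω⟩ := (norm_char_eq_iff ρ g).mp hnorm
      have htriv := rep_trivial_of_scalar hnp ρ g hg ω hω
      have hdim := finrank_eq_one_of_trivial ρ htriv
      apply hχ
      rw [← hρ]
      funext x
      simp only [Representation.character]
      rw [htriv x, LinearMap.trace_one, hdim]
      simp

/-- the column-orthogonality endgame: in a simple group not of prime order there is no `g ≠ 1`
and prime `p` such that every nontrivial irreducible character has degree divisible by `p` or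
coprime to the class size of `g`. -/
theorem false_of_dvd_or_coprime (hnp : ¬ (Nat.card G).Prime) (p : ℕ) (hp : p.Prime) (g : G)
    (hg : g ≠ 1)
    (h : ∀ χ : IrrCharacter G, (χ : G → ℂ) ≠ (fun _ => 1) →
      p ∣ charDegree (χ : G → ℂ) ∨
        Nat.Coprime (charDegree (χ : G → ℂ)) (Subgroup.centralizer ({g} : Set G)).index) :
    False := by
  classical
  have _ : Fintype G := Fintype.ofFinite G
  have _ : Fintype (Cfsg.IrrCharacter G) := Fintype.ofFinite _
  have hcol := (column_orthogonality g 1).2 (by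
    intro h
    exact hg (isConj_one_left.mp h))
  rw [finsum_eq_sum_of_fintype] at hcol
  let χ₀ : Cfsg.IrrCharacter G := ⟨fun _ => 1, Cfsg.Agent.Lib.Helper05.isIrrCharacter_one⟩
  choose! β hβint hβ using fun χ hχ =>
    irr_mul_eq_mul_of_dvd_or_coprime hnp p g hg χ hχ (h χ hχ)
  rw [← Finset.add_sum_erase Finset.univ _ (Finset.mem_univ χ₀)] at hcol
  have h2 : ∑ χ ∈ Finset.univ.erase χ₀, (χ : G → ℂ) g * conj ((χ : G → ℂ) 1) =
      p * ∑ χ ∈ Finset.univ.erase χ₀, β χ := by
    rw [Finset.mul_sum]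
    apply Finset.sum_congr rfl
    intro χ hχ
    apply hβ
    intro h
    apply (Finset.mem_erase.mp hχ).1
    exact Subtype.ext h
  rw [h2] at hcol
  have h3 : ((χ₀ : G → ℂ) g) * conj ((χ₀ : G → ℂ) 1) = 1 := by simp [χ₀]
  rw [h3] at hcol
  set B := ∑ χ ∈ Finset.univ.erase χ₀, β χ with hB
  have hBint : IsIntegral ℤ B := IsIntegral.sum _ (fun χ hχ => hβint χ (by
    intro h
    apply (Finset.mem_erase.mp hχ).1
    exact Subtype.ext h))
  have hp0 : (p : ℂ) ≠ 0 := by exact_mod_cast hp.ne_zero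
  have hBq : B = ((-1 / p : ℚ) : ℂ) := by
    push_cast
    field_simp
    linear_combination hcol
  rw [hBq] at hBint
  have h4 : IsIntegral ℤ (-1 / p : ℚ) := by
    have := (isIntegral_algebraMap_iff (R := ℤ) (A := ℚ) (B := ℂ)
      (algebraMap ℚ ℂ).injective (x := (-1 / p : ℚ))).1
    exact this (by simpa using hBint)
  obtain ⟨m, hm⟩ := IsIntegrallyClosed.isIntegral_iff.1 h4
  have hpq : (p : ℚ) ≠ 0 := by exact_mod_cast hp.ne_zero
  have h5 : (m : ℚ) * p = -1 := by
    have : (algebraMap ℤ ℚ) m = (m : ℚ) := rfl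
    rw [this] at hm
    rw [hm]
    field_simp
  have h6 : (m * p : ℤ) = -1 := by exact_mod_cast h5
  have h7 : (p : ℤ) ∣ 1 := by
    refine ⟨-m, ?_⟩
    linarith
  have h8 : p ∣ 1 := by exact_mod_cast h7
  exact hp.one_lt.ne' (Nat.dvd_one.mp h8)

/-- in a simple group not of prime order every irreducible character of degree `≠ 1` is
faithful. -/
theorem faithful_of_degree_ne_one (hnp : ¬ (Nat.card G).Prime) (χ : IrrCharacter G)
    (hd : charDegree (χ : G → ℂ) ≠ 1) : ∀ g : G, (χ : G → ℂ) g = (χ : G → ℂ) 1 → g = 1 := by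
  intro g hg
  by_contra hg1
  obtain ⟨n, ρ, hirr, hρ⟩ := χ.2
  have h1 : (χ : G → ℂ) 1 = n := by
    rw [← hρ, Representation.char_one, Module.finrank_fin_fun]
  have hdeg : charDegree (χ : G → ℂ) = n := charDegree_eq_of_apply_one h1
  have h2 : ρ.character g = (finrank ℂ (Fin n → ℂ) : ℂ) := by
    rw [Module.finrank_fin_fun, hρ, hg, h1]
  have h3 : ρ g = LinearMap.id := (char_eq_finrank_iff ρ g).mp h2
  have htriv := rep_trivial_of_scalar hnp ρ g hg1 1 (by rw [h3, one_smul])
  have hdim := finrank_eq_one_of_trivial ρ htriv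
  rw [Module.finrank_fin_fun] at hdim
  exact hd (hdeg.trans hdim)

/-- **the simple case of S4466**: a finite simple group not of prime order does not have all its
irreducible characters of degree `≠ 1` of prime degree. -/
theorem simple_case (hnp : ¬ (Nat.card G).Prime) (h : PrimeDeg G) : False := by
  classical
  -- `G` is not commutative
  have hnc : ¬ ∀ a b : G, a * b = b * a := fun hc => hnp (prime_card_of_comm hc)
  -- the set of degrees `≠ 1`
  obtain ⟨χn, hχn⟩ := Cfsg.Agent.Lib.Helper83.exists_nonlinear_of_not_comm hnc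
  have hex : ∃ d : ℕ, ∃ χ : IrrCharacter G, charDegree (χ : G → ℂ) = d ∧ d ≠ 1 := by
    refine ⟨charDegree (χn : G → ℂ), χn, rfl, ?_⟩
    intro h1
    apply hχn
    obtain ⟨n, ρ, hirr, hρ⟩ := χn.2
    have h2 : (χn : G → ℂ) 1 = n := by
      rw [← hρ, Representation.char_one, Module.finrank_fin_fun]
    have hdeg : charDegree (χn : G → ℂ) = n := charDegree_eq_of_apply_one h2
    rw [h2, ← hdeg, h1]
    simp
  -- the least degree `≠ 1`
  let p := Nat.find hex
  obtain ⟨χ₁, hχ₁, hp1⟩ := Nat.find_spec hex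
  have hmin : ∀ χ : IrrCharacter G, charDegree (χ : G → ℂ) ≠ 1 → p ≤ charDegree (χ : G → ℂ) :=
    fun χ hχ => Nat.find_min' hex ⟨χ, rfl, hχ⟩
  change charDegree (χ₁ : G → ℂ) = p at hχ₁
  change p ≠ 1 at hp1
  have hp : p.Prime := by
    have := h χ₁ (by rw [hχ₁]; exact hp1)
    rwa [hχ₁] at this
  have hp2 : p ≠ 2 := by
    have := Cfsg.Agent.Lib.Helper56.PD.no_degree_two hnp χ₁
    rwa [hχ₁] at this
  -- Blichfeldt
  have hfaith := faithful_of_degree_ne_one hnp χ₁ (by rw [hχ₁]; exact hp1)
  obtain ⟨A, hAc, -, hAi⟩ := Cfsg.Agent.S4465.result (χ₁ : G → ℂ)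
    (Cfsg.Agent.Lib.Helper83.isCharacter_of_irr χ₁.2) hfaith p hχ₁
  -- the element `g`
  obtain ⟨g, hg1, hgA⟩ : ∃ g : G, g ≠ 1 ∧ A ≤ Subgroup.centralizer ({g} : Set G) := by
    by_cases hA : ∃ a ∈ A, a ≠ 1
    · obtain ⟨a, haA, ha1⟩ := hA
      refine ⟨a, ha1, ?_⟩
      intro x hx
      rw [Subgroup.mem_centralizer_iff]
      intro y hy
      rw [Set.mem_singleton_iff] at hy
      subst hy
      exact hAc y haA x hx
    · simp only [not_exists, not_and, not_not] at hA
      obtain ⟨g, hg⟩ := exists_ne (1 : G)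
      refine ⟨g, hg, ?_⟩
      intro x hx
      rw [hA x hx]
      exact Subgroup.one_mem _
  -- conclude
  apply false_of_dvd_or_coprime hnp p hp g hg1
  intro χ _
  by_cases hd1 : charDegree (χ : G → ℂ) = 1
  · right
    rw [hd1]
    exact Nat.coprime_one_left _
  have hd : (charDegree (χ : G → ℂ)).Prime := h χ hd1
  have hle := hmin χ hd1
  by_cases hdp : charDegree (χ : G → ℂ) = p
  · left
    rw [hdp]
  right
  rw [Nat.Prime.coprime_iff_not_dvd hd]
  intro hdvd
  have h2 : charDegree (χ : G → ℂ) ∣ A.index :=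
    hdvd.trans (Subgroup.index_dvd_of_le hgA)
  have h3 := hAi _ hd h2
  have h4 := hp.eq_two_or_odd
  have h5 := hd.eq_two_or_odd
  have h6 := hp.two_le
  omega

end Cfsg.Agent.Lib.Helper38.PD
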