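import Mathlib
import Cfsg.Prelude.Def_Blocks
import Cfsg.Agent.Lib.Helper78.PDDefs
import Cfsg.Agent.Lib.Helper14.PDNormal
import Cfsg.Agent.Lib.Helper14.PDQuot
import Cfsg.Agent.Lib.Helper38.PD.Simple

/-!
# K-PD (S4466), parallel hand (helper38): the induction

A finite group all of whose irreducible characters of degree `≠ 1` have prime degree is solvable.
-/

set_option autoImplicit false

namespace Cfsg.Agent.Lib.Helper38.PD

open Cfsg Cfsg.Agent.Lib.Helper78.PD

universe u

theorem solvable_aux : ∀ (N : ℕ) (G : Type u) [Group G] [Finite G], Nat.card G = N →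
    PrimeDeg G → Group.IsSolvable G := by
  intro N
  induction N using Nat.strong_induction_on with
  | _ N ih =>
    intro G _ _ hN h
    by_cases hex : ∃ H : Subgroup G, H.Normal ∧ H ≠ ⊥ ∧ H ≠ ⊤
    · obtain ⟨H, hHn, hb, ht⟩ := hex
      have := hHn
      have hc : Nat.card H * H.index = Nat.card G := H.card_mul_index
      have hH1 : 1 < Nat.card H := (Subgroup.one_lt_card_iff_ne_bot H).mpr hb
      have hi0 : 0 < H.index := Nat.pos_of_ne_zero Subgroup.index_ne_zero_of_finite
      have hi1 : H.index ≠ 1 := fun h1 => ht (Subgroup.index_eq_one.mp h1)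
      have hlt1 : Nat.card H < N := by
        rw [← hN, ← hc]
        have : 2 ≤ H.index := by omega
        nlinarith
      have hlt2 : Nat.card (G ⧸ H) < N := by
        have h4 : Nat.card (G ⧸ H) = H.index := rfl
        rw [h4, ← hN, ← hc]
        nlinarith
      have h1 : Group.IsSolvable H :=
        ih _ hlt1 H rfl (Cfsg.Agent.Lib.Helper14.PD.primeDeg_normal h H)
      have h2 : Group.IsSolvable (G ⧸ H) :=
        ih _ hlt2 (G ⧸ H) rfl (Cfsg.Agent.Lib.Helper14.PD.primeDeg_quotient h H)
      exact Group.isSolvable_of_ker_le_range H.subtype (QuotientGroup.mk' H) (by simp)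
    · by_cases htriv : Subsingleton G
      · exact Group.isSolvable_of_comm (fun a b => by rw [Subsingleton.elim a 1, Subsingleton.elim b 1])
      · have : Nontrivial G := not_subsingleton_iff_nontrivial.mp htriv
        have : IsSimpleGroup G := ⟨fun H hH => by
          by_contra hc
          rw [not_or] at hc
          exact hex ⟨H, hH, hc.1, hc.2⟩⟩
        by_cases hnp : (Nat.card G).Prime
        · have := Fact.mk hnp
          have : IsCyclic G := isCyclic_of_prime_card rfl
          obtain ⟨g, hg⟩ := IsCyclic.exists_generator (α := G)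
          refine Group.isSolvable_of_comm (fun a b => ?_)
          obtain ⟨m, rfl⟩ := Subgroup.mem_zpowers_iff.mp (hg a)
          obtain ⟨n, rfl⟩ := Subgroup.mem_zpowers_iff.mp (hg b)
          rw [← zpow_add, ← zpow_add, add_comm]
        · exact (simple_case hnp h).elim

/-- **S4466**: all irreducible characters of degree `≠ 1` of prime degree ⇒ solvable. -/
theorem solvable_of_primeDeg {G : Type u} [Group G] [Finite G] (h : PrimeDeg G) : Group.IsSolvable G :=
  solvable_aux _ G rfl h

end Cfsg.Agent.Lib.Helper38.PD
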